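import Cfsg.Agent.SLBlocks.Regular
import Cfsg.Agent.SLBlocks.BN
import Cfsg.Agent.Lib.BlocksCore.BlockCount
import Cfsg.Agent.Lib.BlocksCore.DefectZero
import Cfsg.Agent.Lib.BlocksCore.Height

/-!
# The `p`-blocks of `SL_n(p)`
-/

set_option autoImplicit false

namespace Cfsg.Agent.SLBlocks

open BlocksCore BlocksDefect
open scoped MatrixGroups

/-- A defect group contains the `p`-subgroups normalized by, and contained in, its normalizer. -/
theorem le_of_defectGroup {G : Type*} [Group G] [Fintype G] {p : ℕ} [Fact p.Prime]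
    {M : Ideal Cfsg.AlgInt} (hM : Cfsg.IsPModular p M) {B : Set (Cfsg.IrrCharacter G)}
    (hB : Cfsg.IsPBlock M B) {D : Subgroup G} (hD : Cfsg.IsDefectGroup p M B D) {Q : Subgroup G}
    (hQ : IsPGroup p Q) (hQN : Q ≤ Subgroup.normalizer (D : Set G))
    (hconj : ∀ g ∈ Subgroup.normalizer (D : Set G), ∀ q ∈ Q, g * q * g⁻¹ ∈ Q) : Q ≤ D := by
  classical
  set N := Subgroup.normalizer (D : Set G)
  have : Fintype N := Fintype.ofFinite N
  obtain ⟨b, hb, hbD, -⟩ := exists_inducing_normalizer hM (isPGroup_of_isDefectGroup hD) hB hD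
  have : (Q.subgroupOf N).Normal :=
    ⟨fun q hq g => Subgroup.mem_subgroupOf.2 (hconj g g.2 q (Subgroup.mem_subgroupOf.1 hq))⟩
  have h := le_defectGroup (Q.subgroupOf N) hM
    (hQ.of_equiv (Subgroup.subgroupOfEquivOfLe hQN).symm) hb hbD
  exact fun q hq => Subgroup.mem_subgroupOf.1 (h (Subgroup.mem_subgroupOf.2 hq : ⟨q, hQN hq⟩ ∈ _))

variable {p : ℕ} [hp : Fact p.Prime] {m : ℕ} {M : Ideal Cfsg.AlgInt}

local notation "GG" => Matrix.SpecialLinearGroup (Fin (m + 1)) (ZMod p)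

theorem natCard_center :
    Nat.card (Subgroup.center GG) = Nat.gcd (m + 1) (p - 1) := by
  rw [Nat.card_congr Matrix.SpecialLinearGroup.center_equiv_rootsOfUnity.toEquiv,
    rootsOfUnity_eq_ker, IsCyclic.card_powMonoidHom_ker, Nat.card_eq_fintype_card, ZMod.card_units,
    Fintype.card_fin, max_eq_left (by omega), Nat.gcd_comm]

theorem not_dvd_orderOf_center {z : GG} (hz : z ∈ Subgroup.center GG) : ¬ p ∣ orderOf z := by
  have h1 : orderOf z ∣ Nat.card (Subgroup.center GG) :=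
    Subgroup.orderOf_dvd_natCard _ hz
  rw [natCard_center] at h1
  intro h
  have h2 := Nat.le_of_dvd (by have := hp.out.two_le; omega)
    ((h.trans h1).trans (Nat.gcd_dvd_right _ _))
  have := hp.out.two_le
  omega

theorem sylow_ne_bot (hm : 0 < m) (S : Sylow p GG) : (S : Subgroup GG) ≠ ⊥ := by
  intro h
  have hx : BN.xk (F := ZMod p) (⟨0, hm⟩ : Fin m) 1 ≠ 1 := by
    intro e
    have e' := congrArg (fun g : GG => g.1 (⟨0, hm⟩ : Fin m).castSucc (⟨0, hm⟩ : Fin m).succ) e
    simp [BN.xk_coe] at e'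
  obtain ⟨T, hT⟩ := (BN.isPGroup_unip (F := ZMod p) (m := m) p).exists_le_sylow
  have hc : Nat.card T = Nat.card S := by rw [T.card_eq_multiplicity, S.card_eq_multiplicity]
  rw [h, Subgroup.card_bot] at hc
  exact hx (Subgroup.mem_bot.1 ((Subgroup.eq_bot_of_card_eq _ hc) ▸ hT (BN.xk_mem _ 1)))

theorem mem_center_of_sylow (hm : 0 < m) (S : Sylow p GG) {x : GG}
    (hx : x ∈ Subgroup.centralizer ((S : Subgroup GG) : Set GG)) (hxp : ¬ p ∣ orderOf x) :
    x ∈ Subgroup.center GG := by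
  refine mem_center_of_regular (by omega) S.2 (sylow_ne_bot hm S) (fun Q hQ hQN _ => ?_) hx hxp
  have h := hQ.to_sup_of_normal_right' S.2 hQN
  exact le_sup_left.trans (le_of_eq (S.3 h le_sup_right))

theorem natCard_full_defect (hm : 0 < m) (hM : Cfsg.IsPModular p M) (S : Sylow p GG) :
    Nat.card {B : Set (Cfsg.IrrCharacter GG) //
        Cfsg.IsPBlock M B ∧ Cfsg.IsDefectGroup p M B (S : Subgroup GG)} =
      Nat.gcd (m + 1) (p - 1) := by
  classical
  rw [natCard_blocks_full_defect hM S, ← natCard_center (p := p) (m := m)]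
  set N := Subgroup.normalizer ((S : Subgroup GG) : Set GG)
  have hN : ∀ z ∈ Subgroup.center GG, z ∈ N := fun z hz =>
    Subgroup.mem_normalizer_iff.2 fun h => by
      rw [(Subgroup.mem_center_iff.1 hz h).symm, mul_inv_cancel_right]
  have hcls : ∀ (z : Subgroup.center GG) (n : N),
      ConjClasses.mk n = ConjClasses.mk ⟨z.1, hN _ z.2⟩ → (n : GG) = z.1 := by
    intro z n h
    obtain ⟨c, hc⟩ := isConj_iff.1 (ConjClasses.mk_eq_mk_iff_isConj.1 h.symm)
    have hc' := congrArg Subtype.val hc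
    simp only [Subgroup.coe_mul, Subgroup.coe_inv] at hc'
    rw [← hc', Subgroup.mem_center_iff.1 z.2 (c : GG), mul_inv_cancel_right]
  refine (Nat.card_congr (Equiv.ofBijective (fun z : Subgroup.center GG =>
    (⟨ConjClasses.mk (⟨z.1, hN _ z.2⟩ : N), fun n hn => ?_⟩ :
      {C : ConjClasses N // ∀ n : N, ConjClasses.mk n = C → ¬ p ∣ orderOf n ∧
        (n : GG) ∈ Subgroup.centralizer ((S : Subgroup GG) : Set GG)})) ⟨?_, ?_⟩)).symm
  · rw [← Subgroup.orderOf_coe, hcls z n hn]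
    exact ⟨not_dvd_orderOf_center z.2, Subgroup.center_le_centralizer _ z.2⟩
  · intro z z' h
    exact Subtype.ext (hcls z' ⟨z.1, hN _ z.2⟩ (congrArg Subtype.val h))
  · rintro ⟨C, hC⟩
    obtain ⟨n, rfl⟩ := ConjClasses.exists_rep C
    obtain ⟨h1, h2⟩ := hC n rfl
    exact ⟨⟨n, mem_center_of_sylow hm S h2 (by rwa [Subgroup.orderOf_coe])⟩, Subtype.ext rfl⟩

/-- A block whose defect group is not a Sylow subgroup is that of the Steinberg character. -/
theorem blocks_eq (hm : 0 < m) (hM : Cfsg.IsPModular p M) (S : Sylow p GG) :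
    ∃ B₀ : Set (Cfsg.IrrCharacter GG),
      Cfsg.IsPBlock M B₀ ∧ ¬ Cfsg.IsDefectGroup p M B₀ (S : Subgroup GG) ∧
        ∀ B, Cfsg.IsPBlock M B → ¬ Cfsg.IsDefectGroup p M B (S : Subgroup GG) → B = B₀ := by
  classical
  have := BlocksCore.isPrime hM
  have : Fintype GG := Fintype.ofFinite _
  have hs := BN.split2 (F := ZMod p) p hm
  have hr := BN.rel (F := ZMod p) hm
  set a := (Nat.card GG).factorization p with ha
  set χ₀ : Cfsg.IrrCharacter GG :=
    ⟨Steinberg.stChar (BN.pair hm), Steinberg.isIrrCharacter_stChar _⟩ with hχ₀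
  have hd0 : Cfsg.charDegree (χ₀ : GG → ℂ) = Nat.card (BN.unip : Subgroup GG) := by
    show ⌊(Steinberg.stChar (BN.pair hm) 1).re⌋₊ = _
    rw [hs.stChar_one]
    simp
  have hsing := blockOf_eq_singleton_of_not_dvd hM χ₀ (hd0 ▸ hs.not_dvd_card_div)
  have hbot : ∀ D : Subgroup GG, ∀ B, Cfsg.IsPBlock M B → Cfsg.IsDefectGroup p M B D →
      Cfsg.blockDefect p B = 0 → D = ⊥ := fun D B hB hD h0 =>
    Subgroup.eq_bot_of_card_eq _ (by rw [defectGroup_natCard hM hB hD, h0, pow_zero])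
  refine ⟨_, isPBlock_blockOf χ₀, fun hS => sylow_ne_bot hm S (hbot _ _ (isPBlock_blockOf χ₀) hS ?_),
    fun B hB hBS => ?_⟩
  · rw [hsing, Cfsg.blockDefect, Set.image_singleton, csInf_singleton, hd0, hs.card_U_eq,
      hp.out.factorization_pow, Finsupp.single_eq_same, Nat.sub_self]
  obtain ⟨D, hD⟩ := exists_isDefectGroup hM hB
  have hDp := isPGroup_of_isDefectGroup hD
  by_cases hDbot : D = ⊥
  · obtain ⟨χ, hχ⟩ := isPBlock_nonempty hB
    have hd := defectGroup_natCard hM hB hD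
    rw [hDbot, Subgroup.card_bot] at hd
    have h0 : Cfsg.blockDefect p B = 0 :=
      (Nat.pow_eq_one.1 hd.symm).resolve_left hp.out.ne_one
    rw [Cfsg.blockDefect, Nat.sub_eq_zero_iff_le] at h0
    have hle : a ≤ (Cfsg.charDegree (χ : GG → ℂ)).factorization p :=
      h0.trans (Nat.sInf_le ⟨χ, hχ, rfl⟩)
    have hdvd : p ^ a ∣ Cfsg.charDegree (χ : GG → ℂ) :=
      (pow_dvd_pow p hle).trans (Nat.ordProj_dvd _ _)
    have he : χ = χ₀ := Subtype.ext (Steinberg.eq_stChar hs hr χ hdvd)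
    rw [isPBlock_eq_blockOf hB hχ, he]
  · exfalso
    obtain ⟨g, hg, hgD⟩ := isDefectGroup_iff.1 hD
    have hgc : g ∈ Subgroup.center GG :=
      mem_center_of_regular (by omega) hDp hDbot
        (fun Q hQ hQN hc => le_of_defectGroup hM hB hD hQ hQN hc) hgD.mem_centralizer
        (defectClass_regular hM hB hg)
    have hcard : Nat.card D = p ^ a := by
      rw [hgD.natCard]
      have htop : Subgroup.centralizer ({g} : Set GG) = ⊤ :=
        Subgroup.centralizer_eq_top_iff_subset.2 (Set.singleton_subset_iff.2 hgc)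
      rw [htop, Nat.card_congr Subgroup.topEquiv.toEquiv]
    obtain ⟨x, hx⟩ := MulAction.exists_smul_eq GG
      (Sylow.ofCard D hcard) S
    have hmap : D.map (MulAut.conj x).toMonoidHom = (S : Subgroup GG) := by
      rw [← hx]; rfl
    exact hBS (hmap ▸ isDefectGroup_map_conj hM hB hD x)

theorem natCard_blocks (hm : 0 < m) (hM : Cfsg.IsPModular p M) :
    Nat.card {B : Set (Cfsg.IrrCharacter GG) // Cfsg.IsPBlock M B} = Nat.gcd (m + 1) (p - 1) + 1 := by
  classical
  have : Fintype GG := Fintype.ofFinite _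
  obtain ⟨S⟩ : Nonempty (Sylow p GG) := inferInstance
  obtain ⟨B₀, hB₀, hn, huniq⟩ := blocks_eq hm hM S
  have hA := natCard_full_defect hm hM S
  set A : Set (Set (Cfsg.IrrCharacter GG)) :=
    {B | Cfsg.IsPBlock M B ∧ Cfsg.IsDefectGroup p M B (S : Subgroup GG)} with hAdef
  have hAc : A.ncard = Nat.gcd (m + 1) (p - 1) := by
    rw [← Nat.card_coe_set_eq]; exact hA
  have hset : {B : Set (Cfsg.IrrCharacter GG) | Cfsg.IsPBlock M B} = insert B₀ A := by
    ext B
    refine ⟨fun hB => ?_, fun h => h.elim (fun e => e ▸ hB₀) fun h => h.1⟩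
    by_cases h : Cfsg.IsDefectGroup p M B (S : Subgroup GG)
    · exact Or.inr ⟨hB, h⟩
    · exact Or.inl (huniq B hB h)
  have hfin : A.Finite := by
    refine Set.finite_of_ncard_ne_zero ?_
    rw [hAc]
    exact (Nat.gcd_pos_of_pos_left _ (Nat.succ_pos _)).ne'
  show Nat.card {B : Set (Cfsg.IrrCharacter GG) | Cfsg.IsPBlock M B} = _
  rw [Nat.card_coe_set_eq, hset, Set.ncard_insert_of_notMem (fun h => hn h.2) hfin, hAc]

end Cfsg.Agent.SLBlocks
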