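import Mathlib

/-!
# Centralisers of radical `p`-subgroups of `SL_n` in characteristic `p`

If `D ≠ 1` is a `p`-subgroup containing every `p`-subgroup of its normalizer that the normalizer
normalizes, then an element of order prime to `p` centralizing `D` is central: `D` contains all
transvections fixing the fixed space `V₁` of `D` pointwise and moving vectors into `V₁`.
-/

set_option autoImplicit false

namespace Cfsg.Agent.SLBlocks

open Matrix
open scoped MatrixGroups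

variable {F : Type*} [Field F] [Finite F] {p : ℕ} [hp : Fact p.Prime] [CharP F p] {n : ℕ}

abbrev SLn (n : ℕ) (F : Type*) [Field F] := Matrix.SpecialLinearGroup (Fin n) F

omit [Finite F] in
theorem mulVec_mul (g h : SLn n F) (v : Fin n → F) :
    (g * h).1 *ᵥ v = g.1 *ᵥ (h.1 *ᵥ v) := by
  rw [Matrix.SpecialLinearGroup.coe_mul, Matrix.mulVec_mulVec]

omit [Finite F] in
theorem inv_mulVec_mulVec (g : SLn n F) (v : Fin n → F) : g⁻¹.1 *ᵥ (g.1 *ᵥ v) = v := by
  rw [← mulVec_mul, inv_mul_cancel, Matrix.SpecialLinearGroup.coe_one, Matrix.one_mulVec]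

/-- The vectors fixed by a subgroup. -/
def fixedSp (D : Subgroup (SLn n F)) : Submodule F (Fin n → F) where
  carrier := {v | ∀ d ∈ D, d.1 *ᵥ v = v}
  add_mem' ha hb d hd := by rw [Matrix.mulVec_add, ha d hd, hb d hd]
  zero_mem' d _ := Matrix.mulVec_zero _
  smul_mem' c v hv d hd := by rw [Matrix.mulVec_smul, hv d hd]

/-- The stabiliser of the chain `0 ≤ W ≤ V`. -/
def chainStab (W : Submodule F (Fin n → F)) : Subgroup (SLn n F) where
  carrier := {g | (∀ v ∈ W, g.1 *ᵥ v = v) ∧ ∀ v, g.1 *ᵥ v - v ∈ W}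
  one_mem' := ⟨fun v _ => by simp, fun v => by simp⟩
  mul_mem' {g h} hg hh := ⟨fun v hv => by rw [mulVec_mul, hh.1 v hv, hg.1 v hv], fun v => by
    have e : (g * h).1 *ᵥ v - v = (g.1 *ᵥ (h.1 *ᵥ v) - h.1 *ᵥ v) + (h.1 *ᵥ v - v) := by
      rw [mulVec_mul]; abel
    rw [e]
    exact add_mem (hg.2 _) (hh.2 v)⟩
  inv_mem' {g} hg := by
    have h1 : ∀ v ∈ W, g⁻¹.1 *ᵥ v = v := fun v hv => by
      conv_lhs => rw [← hg.1 v hv]
      rw [inv_mulVec_mulVec]
    refine ⟨h1, fun v => ?_⟩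
    have h2 := hg.2 (g⁻¹.1 *ᵥ v)
    rw [← mulVec_mul, mul_inv_cancel, Matrix.SpecialLinearGroup.coe_one, Matrix.one_mulVec] at h2
    simpa using neg_mem h2

theorem pow_p_chainStab {W : Submodule F (Fin n → F)} {g : SLn n F} (hg : g ∈ chainStab W) :
    g ^ p = 1 := by
  rcases Nat.eq_zero_or_pos n with rfl | hn
  · exact Subsingleton.elim _ _
  have : Nonempty (Fin n) := ⟨⟨0, hn⟩⟩
  have h0 : (g.1 - 1) ^ 2 = 0 := by
    apply Matrix.toLin'.injective
    refine LinearMap.ext fun v => ?_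
    rw [map_zero, LinearMap.zero_apply, Matrix.toLin'_apply, sq, ← Matrix.mulVec_mulVec,
      Matrix.sub_mulVec, Matrix.sub_mulVec, Matrix.one_mulVec, Matrix.one_mulVec]
    exact sub_eq_zero.2 (hg.1 _ (hg.2 v))
  have h1 : (g.1 - 1) ^ p = g.1 ^ p - 1 ^ p := sub_pow_char_of_commute p (Commute.one_right _)
  have h2 : (g.1 - 1) ^ p = 0 := pow_eq_zero_of_le hp.out.two_le h0
  rw [h2, one_pow, eq_comm, sub_eq_zero] at h1
  apply Subtype.ext
  rw [Matrix.SpecialLinearGroup.coe_pow, Matrix.SpecialLinearGroup.coe_one, h1]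

theorem isPGroup_chainStab (W : Submodule F (Fin n → F)) : IsPGroup p (chainStab W) := fun g =>
  ⟨1, Subtype.ext (by simpa using pow_p_chainStab (p := p) g.2)⟩

/-- A `p`-group fixes a nonzero vector. -/
theorem exists_fixed_ne_zero (hn : 0 < n) {D : Subgroup (SLn n F)} (hD : IsPGroup p D) :
    ∃ v ∈ fixedSp D, v ≠ 0 := by
  classical
  let : MulAction D (Fin n → F) :=
    { smul := fun d v => d.1.1 *ᵥ v
      one_smul := fun v => by
        show (1 : D).1.1 *ᵥ v = v
        simp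
      mul_smul := fun a b v => by
        show (a * b).1.1 *ᵥ v = a.1.1 *ᵥ (b.1.1 *ᵥ v)
        rw [Subgroup.coe_mul, mulVec_mul] }
  have hdvd : p ∣ Nat.card (Fin n → F) := by
    rw [Nat.card_fun, Nat.card_fin]
    obtain ⟨m, -, hm⟩ := @FiniteField.card F _ (Fintype.ofFinite F) p _
    rw [← @Nat.card_eq_fintype_card F (Fintype.ofFinite F)] at hm
    rw [hm]
    exact dvd_pow (dvd_pow_self p m.pos.ne') hn.ne'
  obtain ⟨v, hv, hne⟩ := hD.exists_fixed_point_of_prime_dvd_card_of_fixed_point (Fin n → F) hdvd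
    (a := (0 : Fin n → F)) fun d => Matrix.mulVec_zero _
  exact ⟨v, fun d hd => hv ⟨d, hd⟩, fun h => hne h.symm⟩

omit [Finite F] in
/-- The elementary transvection `u ↦ u + φ u • v`. -/
theorem exists_transvection {W : Submodule F (Fin n → F)} {v : Fin n → F} (hv : v ∈ W)
    {φ : (Fin n → F) →ₗ[F] F} (hφ : ∀ w ∈ W, φ w = 0) :
    ∃ t ∈ chainStab W, ∀ u, (t : SLn n F).1 *ᵥ u = u + φ u • v := by
  classical
  set a : Fin n → F := fun j => φ (Pi.single j 1) with ha
  have hdot : ∀ u, a ⬝ᵥ u = φ u := fun u => by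
    conv_rhs => rw [pi_eq_sum_univ' u, map_sum]
    simp only [dotProduct, map_smul, smul_eq_mul, ha]
    exact Finset.sum_congr rfl fun j _ => mul_comm _ _
  have hact : ∀ u, (1 + Matrix.vecMulVec v a) *ᵥ u = u + φ u • v := fun u => by
    rw [Matrix.add_mulVec, Matrix.one_mulVec, ← hdot]
    ext i
    simp [Matrix.mulVec, Matrix.vecMulVec, dotProduct, Finset.mul_sum, mul_comm, mul_left_comm]
  have hdet : (1 + Matrix.vecMulVec v a).det = 1 := by
    rw [Matrix.vecMulVec_eq Unit, Matrix.det_one_add_replicateCol_mul_replicateRow, hdot, hφ v hv,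
      add_zero]
  refine ⟨⟨_, hdet⟩, ⟨fun u hu => ?_, fun u => ?_⟩, hact⟩
  · show (1 + Matrix.vecMulVec v a) *ᵥ u = u
    rw [hact, hφ u hu, zero_smul, add_zero]
  · show (1 + Matrix.vecMulVec v a) *ᵥ u - u ∈ W
    rw [hact, add_sub_cancel_left]
    exact Submodule.smul_mem _ _ hv

/-- The radical subgroup contains the stabiliser of the chain given by its fixed space. -/
theorem chainStab_le {D : Subgroup (SLn n F)} (hD : IsPGroup p D)
    (hrad : ∀ Q : Subgroup (SLn n F), IsPGroup p Q →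
      Q ≤ Subgroup.normalizer (D : Set (SLn n F)) →
      (∀ g ∈ Subgroup.normalizer (D : Set (SLn n F)), ∀ q ∈ Q, g * q * g⁻¹ ∈ Q) → Q ≤ D) :
    chainStab (fixedSp D) ≤ D := by
  classical
  set N := Subgroup.normalizer (D : Set (SLn n F)) with hN
  set U := chainStab (fixedSp D) with hU
  have hW : ∀ g ∈ N, ∀ v ∈ fixedSp D, g.1 *ᵥ v ∈ fixedSp D := by
    intro g hg v hv d hd
    have h1 : g⁻¹ * d * g ∈ D := by
      have := (Subgroup.mem_normalizer_iff.1 (inv_mem hg) d).1 hd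
      simpa [inv_inv] using this
    have h2 : (g * (g⁻¹ * d * g)).1 *ᵥ v = g.1 *ᵥ v := by rw [mulVec_mul, hv _ h1]
    rw [show g * (g⁻¹ * d * g) = d * g by group, mulVec_mul] at h2
    exact h2
  have hconj : ∀ g ∈ N, ∀ u ∈ U, g * u * g⁻¹ ∈ U := by
    intro g hg u hu
    refine ⟨fun v hv => ?_, fun v => ?_⟩
    · rw [mulVec_mul, mulVec_mul, hu.1 _ (hW _ (inv_mem hg) v hv), ← mulVec_mul, mul_inv_cancel]
      simp
    · have h1 := hW g hg _ (hu.2 (g⁻¹.1 *ᵥ v))
      simp only [Matrix.mulVec_sub, ← mulVec_mul, ← mul_assoc] at h1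
      simpa using h1
  have hDU : D ≤ Subgroup.normalizer (U : Set (SLn n F)) := by
    intro d hd
    have hdN : d ∈ N := Subgroup.le_normalizer hd
    refine Subgroup.mem_normalizer_iff.2 fun u => ⟨fun hu => hconj d hdN u hu, fun hu => ?_⟩
    simpa [mul_assoc] using hconj _ (inv_mem hdN) _ hu
  set P := D ⊔ U with hP
  have hPp : IsPGroup p P := hD.to_sup_of_normal_right' (isPGroup_chainStab _) hDU
  have hQ : P ⊓ N ≤ D := by
    refine hrad _ (hPp.to_le inf_le_left) inf_le_right fun g hg q hq => ⟨?_, ?_⟩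
    · have hmap : P.map (MulAut.conj g).toMonoidHom ≤ P := by
        rw [hP, Subgroup.map_sup]
        refine sup_le_sup ?_ ?_
        · rintro _ ⟨d, hd, rfl⟩
          exact (Subgroup.mem_normalizer_iff.1 hg d).1 hd
        · rintro _ ⟨u, hu, rfl⟩
          exact hconj g hg u hu
      exact hmap ⟨q, hq.1, rfl⟩
    · exact N.mul_mem (N.mul_mem hg hq.2) (N.inv_mem hg)
  have : Group.IsNilpotent P := hPp.isNilpotent
  by_contra hne
  have hlt : D.subgroupOf P < ⊤ := lt_top_iff_ne_top.2 fun h =>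
    hne (le_sup_right.trans (Subgroup.subgroupOf_eq_top.1 h))
  obtain ⟨x, hx, hxD⟩ := SetLike.exists_of_lt (Group.normalizerCondition_of_isNilpotent _ hlt)
  refine hxD (Subgroup.mem_subgroupOf.2 (hQ ⟨x.2, Subgroup.mem_normalizer_iff.2 fun d => ?_⟩))
  have h1 : ∀ {e : SLn n F} (he : e ∈ P), (x.1 * e * x.1⁻¹ ∈ D ↔ e ∈ D) := fun {e} he => by
    have := (Subgroup.mem_normalizer_iff.1 hx ⟨e, he⟩).symm
    simpa [Subgroup.mem_subgroupOf] using this
  constructor
  · exact fun hd => (h1 (le_sup_left (a := D) (b := U) hd)).2 hd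
  · intro hd
    have h2 : d ∈ P := by
      have := mul_mem (mul_mem (inv_mem x.2) (le_sup_left (a := D) (b := U) hd)) x.2
      simpa [mul_assoc] using this
    exact (h1 h2).1 hd

/-- An element of order prime to `p` centralizing a radical `p`-subgroup is central. -/
theorem mem_center_of_regular (hn : 0 < n) {D : Subgroup (SLn n F)} (hD : IsPGroup p D)
    (hne : D ≠ ⊥)
    (hrad : ∀ Q : Subgroup (SLn n F), IsPGroup p Q →
      Q ≤ Subgroup.normalizer (D : Set (SLn n F)) →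
      (∀ g ∈ Subgroup.normalizer (D : Set (SLn n F)), ∀ q ∈ Q, g * q * g⁻¹ ∈ Q) → Q ≤ D)
    {x : SLn n F} (hxC : x ∈ Subgroup.centralizer (D : Set (SLn n F)))
    (hxp : ¬ p ∣ orderOf x) : x ∈ Subgroup.center (SLn n F) := by
  classical
  have : Nonempty (Fin n) := ⟨⟨0, hn⟩⟩
  obtain ⟨v₀, hv₀, hv₀0⟩ := exists_fixed_ne_zero hn hD
  obtain ⟨d₀, hd₀, hd₀1⟩ := (Subgroup.ne_bot_iff_exists_ne_one.1 hne) |>.elim
    fun d h => (⟨d.1, d.2, fun e => h (Subtype.ext e)⟩ : ∃ d ∈ D, d ≠ (1 : SLn n F))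
  obtain ⟨w, hw⟩ : ∃ w, w ∉ fixedSp D := by
    by_contra hall
    push Not at hall
    refine hd₀1 (Subtype.ext (Matrix.toLin'.injective (LinearMap.ext fun v => ?_)))
    rw [Matrix.toLin'_apply, Matrix.toLin'_apply, hall v d₀ hd₀,
      Matrix.SpecialLinearGroup.coe_one, Matrix.one_mulVec]
  have key : ∀ v ∈ fixedSp D, ∀ φ : (Fin n → F) →ₗ[F] F, (∀ w ∈ fixedSp D, φ w = 0) →
      ∀ u, φ u • (x.1 *ᵥ v) = φ (x.1 *ᵥ u) • v := by
    intro v hv φ hφ u
    obtain ⟨t, ht, hta⟩ := exists_transvection hv hφ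
    have hc := Subgroup.mem_centralizer_iff.1 hxC t (chainStab_le hD hrad ht)
    have h1 := congrArg (fun g : SLn n F => g.1 *ᵥ u) hc
    simp only [mulVec_mul, hta, Matrix.mulVec_add, Matrix.mulVec_smul] at h1
    exact (add_left_cancel h1).symm
  obtain ⟨φ, hφw, hφ⟩ := Submodule.exists_le_ker_of_notMem hw
  have hφ' : ∀ u ∈ fixedSp D, ((φ w)⁻¹ • φ) u = 0 := fun u hu => by
    simp [LinearMap.mem_ker.1 (hφ hu)]
  set l : F := ((φ w)⁻¹ • φ) (x.1 *ᵥ w) with hl
  have hxv : ∀ v ∈ fixedSp D, x.1 *ᵥ v = l • v := fun v hv => by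
    have := key v hv _ hφ' w
    rwa [show ((φ w)⁻¹ • φ) w = 1 by simp [hφw], one_smul] at this
  have hxu : ∀ u, x.1 *ᵥ u - l • u ∈ fixedSp D := by
    intro u
    by_contra hu
    obtain ⟨ψ, hψu, hψ⟩ := Submodule.exists_le_ker_of_notMem hu
    refine hψu ?_
    have h1 := key v₀ hv₀ ψ (fun y hy => LinearMap.mem_ker.1 (hψ hy)) u
    rw [hxv v₀ hv₀, smul_smul] at h1
    rw [map_sub, map_smul, smul_eq_mul, ← smul_left_injective F hv₀0 h1]
    ring
  have h2 : (x.1 - Matrix.scalar (Fin n) l) ^ 2 = 0 := by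
    apply Matrix.toLin'.injective
    refine LinearMap.ext fun u => ?_
    have hs : ∀ v, Matrix.scalar (Fin n) l *ᵥ v = l • v := fun v => by
      ext i; simp [Matrix.scalar_apply, Matrix.mulVec_diagonal]
    rw [map_zero, LinearMap.zero_apply, Matrix.toLin'_apply, sq, ← Matrix.mulVec_mulVec,
      Matrix.sub_mulVec, Matrix.sub_mulVec, hs, hs, hxv _ (hxu u), sub_self]
  have h3 : (x.1 - Matrix.scalar (Fin n) l) ^ p = x.1 ^ p - Matrix.scalar (Fin n) l ^ p :=
    sub_pow_char_of_commute p (Matrix.scalar_commute l (Commute.all l) x.1).symm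
  rw [pow_eq_zero_of_le hp.out.two_le h2, eq_comm, sub_eq_zero, ← map_pow] at h3
  have hxc : x ^ p ∈ Subgroup.center (SLn n F) := by
    refine Subgroup.mem_center_iff.2 fun g => Subtype.ext ?_
    rw [Matrix.SpecialLinearGroup.coe_mul, Matrix.SpecialLinearGroup.coe_mul,
      Matrix.SpecialLinearGroup.coe_pow, h3]
    exact (Matrix.scalar_commute _ (Commute.all _) g.1).symm
  obtain ⟨k, hk⟩ := exists_pow_eq_self_of_coprime
    ((Nat.Prime.coprime_iff_not_dvd hp.out).2 hxp)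
  rw [← hk]
  exact pow_mem hxc k

end Cfsg.Agent.SLBlocks
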